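import Groth.Agent.S15384
import Groth.Agent.S0071
import Groth.Agent.Lib.EtStalk.HofPush
import Groth.Prelude.Def_Dix
import Groth.Prelude.Def_Mor2

/-!
# The norm `f_* G_m → G_m` on the small etale site of the target of a finite locally free morphism
-/

set_option autoImplicit false
set_option linter.style.haveILetI false
set_option backward.isDefEq.respectTransparency.types false
set_option backward.isDefEq.respectTransparency false

universe u

open CategoryTheory CategoryTheory.Limits AlgebraicGeometry Opposite MonObj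

noncomputable section

namespace Groth.Agent.GmNorm9

open Groth.Agent.S15384

variable {X Y : Scheme.{u}} (f : X ⟶ Y) [IsFinite f] [Flat f] [LocallyOfFinitePresentation f]

/-- An etale scheme as an object over the base. -/
abbrev ov (V : Y.Etale) : Over Y := (Scheme.Etale.forget Y).obj V

/-- The norm of a unit on the inverse image of an etale scheme. -/
def nPt (V : Y.Etale) (w : (Γ(pullback V.hom f, ⊤))ˣ) : ov V ⟶ Red.Gm Y :=
  (existsUnique_isN f (ov V) (GmPts.ptOfUnit w)).choose

theorem nPt_spec (V : Y.Etale) (w : (Γ(pullback V.hom f, ⊤))ˣ) :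
    IsN f (ov V) (GmPts.ptOfUnit w) (nPt f V w) :=
  (existsUnique_isN f (ov V) (GmPts.ptOfUnit w)).choose_spec.1

theorem nPt_mul (V : Y.Etale) (w w' : (Γ(pullback V.hom f, ⊤))ˣ) :
    nPt f V (w * w') = nPt f V w * nPt f V w' := by
  refine IsN.unique f (nPt_spec f V _) ?_
  rw [GmPts.ptOfUnit_mul]
  exact IsN.mul f (nPt_spec f V w) (nPt_spec f V w')

/-- The norm on units. -/
def nU (V : Y.Etale) (w : (Γ(pullback V.hom f, ⊤))ˣ) : (Γ(V.left, ⊤))ˣ := GmPts.unitOfPt (nPt f V w)

theorem nU_mul (V : Y.Etale) (w w' : (Γ(pullback V.hom f, ⊤))ˣ) : nU f V (w * w') = nU f V w * nU f V w' := by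
  rw [nU, nU, nU, nPt_mul, GmPts.unitOfPt_mul]

omit [IsFinite f] [Flat f] [LocallyOfFinitePresentation f] in
theorem bc_map_left {V V' : Y.Etale} (g : V' ⟶ V) :
    ((EtCoh.bc f).map g).left = ((Over.pullback f).map ((Scheme.Etale.forget Y).map g)).left := by
  apply pullback.hom_ext
  · exact ((EtCoh.isPullback_bc_map f g).w).trans (pullback.lift_fst _ _ _).symm
  · exact (MorphismProperty.Over.w ((EtCoh.bc f).map g)).trans (pullback.lift_snd _ _ _).symm

theorem nU_natural {V V' : Y.Etale} (g : V' ⟶ V) (w : (Γ(pullback V.hom f, ⊤))ˣ) :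
    nU f V' (Units.map ((EtCoh.bc f).map g).left.appTop.hom.toMonoidHom w) =
      Units.map g.left.appTop.hom.toMonoidHom (nU f V w) := by
  let a : ov V' ⟶ ov V := (Scheme.Etale.forget Y).map g
  have h := IsN.comp f a (nPt_spec f V w)
  rw [GmPts.ptOfUnit_comp] at h
  have e : nPt f V' (Units.map ((EtCoh.bc f).map g).left.appTop.hom.toMonoidHom w) = a ≫ nPt f V w := by
    refine IsN.unique f (nPt_spec f V' _) ?_
    convert h using 2
    rw [bc_map_left]
    rfl
  rw [nU, e, nU, GmPts.unitOfPt_comp]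
  rfl

/-- The norm of etale sheaves. -/
def normHom : (EtCoh.push f).obj (EtCoh.Gm X) ⟶ EtCoh.Gm Y :=
  ObjectProperty.homMk
    { app := fun V => AddCommGrpCat.ofHom (AddMonoidHom.mk'
        (fun s => ULift.up (Additive.ofMul (nU f V.unop s.down.toMul)))
        (fun s s' => ULift.ext _ _ (congrArg Additive.ofMul (nU_mul f V.unop s.down.toMul s'.down.toMul))))
      naturality := fun V V' g => AddCommGrpCat.ext fun s => ULift.ext _ _ (congrArg Additive.ofMul
        (nU_natural f g.unop s.down.toMul)) }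

variable {d : ℕ}

omit [LocallyOfFinitePresentation f] in
theorem finrank_chart (hd : ∀ y, f.finrank y = d) {W : Over Y} [IsAffine W.left] [Nonempty W.left]
    (hW : Chart f W) :
    letI := alg f W
    Module.finrank Γ(W.left, ⊤) Γ(pullback W.hom f, ⊤) = d := by
  obtain ⟨-, hfin, hfree⟩ := hW
  letI := alg f W
  haveI := hfin
  haveI := hfree
  obtain ⟨z⟩ := ‹Nonempty W.left›
  have h1 : (pullback.fst W.hom f).finrank z = d := by
    rw [Scheme.Hom.finrank_pullback_fst, hd]
  haveI : IsAffine (pullback W.hom f) := isAffine_of_isAffineHom (pullback.fst W.hom f)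
  let φ := Spec.map (CommRingCat.ofHom (algebraMap Γ(W.left, ⊤) Γ(pullback W.hom f, ⊤)))
  have sq : IsPullback (pullback W.hom f).isoSpec.hom (pullback.fst W.hom f) φ W.left.isoSpec.hom :=
    IsPullback.of_horiz_isIso ⟨(Scheme.isoSpec_hom_naturality (pullback.fst W.hom f))⟩
  haveI : IsFinite φ := (MorphismProperty.arrow_mk_iso_iff @IsFinite
    (Arrow.isoMk (pullback W.hom f).isoSpec W.left.isoSpec sq.w)).1 (show IsFinite (pullback.fst W.hom f) from inferInstance)
  haveI : Flat φ := (MorphismProperty.arrow_mk_iso_iff @Flat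
    (Arrow.isoMk (pullback W.hom f).isoSpec W.left.isoSpec sq.w)).1 (show Flat (pullback.fst W.hom f) from inferInstance)
  rw [Scheme.Hom.finrank_of_isPullback _ _ _ _ sq, Scheme.Hom.finrank_SpecMap_algebraMap] at h1
  haveI : Nontrivial Γ(W.left, ⊤) := PrimeSpectrum.nonempty_iff_nontrivial.1 ⟨W.left.isoSpec.hom z⟩
  rw [Module.rankAtStalk_eq_finrank_of_free] at h1
  exact h1

theorem nU_pullback (hd : ∀ y, f.finrank y = d) (V : Y.Etale) (w : (Γ(V.left, ⊤))ˣ) :
    nU f V (Units.map (pullback.fst V.hom f).appTop.hom.toMonoidHom w) = w ^ d := by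
  have e : nPt f V (Units.map (pullback.fst V.hom f).appTop.hom.toMonoidHom w) =
      GmPts.ptOfUnit (T := ov V) (w ^ d) := by
    refine IsN.unique f (nPt_spec f V _) ?_
    intro W a hW
    haveI := hW.1
    letI := alg f W
    rw [GmPts.gmFn_comp, GmPts.gmFn_ptOfUnit]
    have e2 : (show Γ(pullback W.hom f, ⊤) from Red.gmFn ((Over.pullback f).map a ≫
        GmPts.ptOfUnit (Units.map (pullback.fst V.hom f).appTop.hom.toMonoidHom w))) =
        algebraMap Γ(W.left, ⊤) Γ(pullback W.hom f, ⊤) (a.left.appTop w.1) := by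
      rw [GmPts.gmFn_comp, GmPts.gmFn_ptOfUnit]
      show (((Over.pullback f).map a).left.appTop).hom ((pullback.fst V.hom f).appTop.hom w.1) =
        (pullback.fst W.hom f).appTop.hom (a.left.appTop.hom w.1)
      have hc : ((Over.pullback f).map a).left ≫ pullback.fst V.hom f = pullback.fst W.hom f ≫ a.left :=
        pullback.lift_fst _ _ _
      exact (GmPts.appTop_comp_apply _ _ _).symm.trans
        ((congrArg (fun m => (Scheme.Hom.appTop m).hom w.1) hc).trans (GmPts.appTop_comp_apply _ _ _))
    show _ = Algebra.norm Γ(W.left, ⊤) _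
    rw [show (show Γ(pullback W.hom f, ⊤) from _) = _ from e2]
    rcases isEmpty_or_nonempty W.left with h | h
    · haveI : Subsingleton Γ(W.left, ⊤) := by
        haveI : IsEmpty (PrimeSpectrum Γ(W.left, ⊤)) :=
          ⟨fun q => h.false (W.left.isoSpec.inv q)⟩
        exact not_nontrivial_iff_subsingleton.1 fun hn =>
          isEmptyElim (PrimeSpectrum.nonempty_iff_nontrivial.2 hn).some
      exact Subsingleton.elim _ _
    · haveI := hW.2.2
      rw [Algebra.norm_algebraMap, finrank_chart f hd hW, Units.val_pow_eq_pow_val, map_pow]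
  rw [nU, e, GmPts.unitOfPt_ptOfUnit]

theorem gmPush_normHom (hd : ∀ y, f.finrank y = d) :
    EtLim.GmPush f ≫ normHom f = d • 𝟙 (EtCoh.Gm Y) := by
  refine ObjectProperty.hom_ext _ (NatTrans.ext (funext fun V => AddCommGrpCat.ext fun s => ?_))
  refine Eq.trans (ULift.ext _ (d • s) (congrArg Additive.ofMul (nU_pullback f hd V.unop s.down.toMul))) ?_
  rfl

end Groth.Agent.GmNorm9
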